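import Mathlib.GroupTheory.GroupAction.Primitive
import Mathlib.GroupTheory.GroupAction.MultipleTransitivity
import Mathlib.GroupTheory.QuotientGroup.Basic
import Mathlib.Algebra.MonoidAlgebra.Basic
import Mathlib.Algebra.CharP.Lemmas
import Mathlib.Algebra.CharP.Algebra
import Mathlib.Data.ZMod.Basic
import Mathlib.Algebra.Field.ZMod
import Mathlib.SetTheory.Cardinal.Finite
import Mathlib.GroupTheory.Index

/-!
Schur–Wielandt: let a group act primitively on a finite abelian group `K`, containing all left
translations. If for some prime `p` the subgroup of solutions of `x ^ p = 1` has order `p` and is proper,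
then the stabiliser of the identity is transitive on the other elements.
-/

set_option autoImplicit false
set_option linter.style.haveILetI false

namespace CfsgLib.BGroup

open scoped Pointwise

variable {G K : Type*} [Group G] [CommGroup K] [MulAction G K]

/-- a set which is invariant under the stabiliser of the identity -/
def Invariant (G : Type*) {K : Type*} [Group G] [CommGroup K] [MulAction G K] (S : Set K) : Prop :=
  ∀ g : G, g • (1 : K) = 1 → ∀ x, g • x ∈ S ↔ x ∈ S

/-- the action contains every translation -/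
def HasTranslations (G K : Type*) [Group G] [CommGroup K] [MulAction G K] : Prop :=
  ∀ k : K, ∃ g : G, ∀ x : K, g • x = k * x

theorem Invariant.pair {S : Set K} (hS : Invariant G S) (hT : HasTranslations G K) (g : G) (a b : K) :
    (g • a)⁻¹ * (g • b) ∈ S ↔ a⁻¹ * b ∈ S := by
  obtain ⟨u, hu⟩ := hT a
  obtain ⟨v, hv⟩ := hT (g • a)⁻¹
  have h1 : (v * g * u) • (1 : K) = 1 := by
    rw [mul_smul, mul_smul, hu, mul_one, hv, inv_mul_cancel]
  have h := hS _ h1 (a⁻¹ * b)
  rwa [mul_smul, mul_smul, hu, mul_inv_cancel_left, hv] at h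

theorem Invariant.pair_one {S : Set K} (hS : Invariant G S) (hT : HasTranslations G K) {g : G}
    (hg : g • (1 : K) = 1) (a b : K) : (g • a)⁻¹ * (g • b) ∈ S ↔ a⁻¹ * b ∈ S :=
  hS.pair hT g a b

theorem invariant_inv {S : Set K} (hS : Invariant G S) (hT : HasTranslations G K) :
    Invariant G {x | x⁻¹ ∈ S} := by
  intro g hg x
  have h := hS.pair hT g x 1
  rw [hg, mul_one, mul_one] at h
  exact h

theorem invariant_closure {S : Set K} (hS : Invariant G S) (hT : HasTranslations G K) :
    Invariant G (Subgroup.closure S : Set K) := by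
  have key : ∀ x ∈ Subgroup.closure S, ∀ g : G, g • (1 : K) = 1 → g • x ∈ Subgroup.closure S := by
    intro x hx
    induction hx using Subgroup.closure_induction_right with
    | one => intro g hg; rw [hg]; exact one_mem _
    | mul_right x _ y hy ih =>
      intro g hg
      have h : (g • x)⁻¹ * (g • (x * y)) ∈ S := (hS.pair hT g x (x * y)).2 (by rwa [inv_mul_cancel_left])
      have := mul_mem (ih g hg) (Subgroup.subset_closure h)
      rwa [mul_inv_cancel_left] at this
    | mul_inv_cancel x _ y hy ih =>
      intro g hg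
      have h : (g • (x * y⁻¹))⁻¹ * (g • x) ∈ S :=
        (hS.pair hT g (x * y⁻¹) x).2 (by rwa [mul_inv_rev, inv_inv, inv_mul_cancel_right])
      have := mul_mem (ih g hg) (inv_mem (Subgroup.subset_closure h))
      rwa [mul_inv_rev, inv_inv, mul_inv_cancel_left] at this
  intro g hg x
  refine ⟨fun h => ?_, fun h => key x h g hg⟩
  have := key _ h g⁻¹ (by rw [inv_smul_eq_iff, hg])
  rwa [inv_smul_smul] at this

theorem eq_bot_or_top [MulAction.IsPreprimitive G K] (hT : HasTranslations G K) (H : Subgroup K)
    (hH : Invariant G (H : Set K)) : H = ⊥ ∨ H = ⊤ := by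
  have hblock : MulAction.IsBlock G (H : Set K) := by
    intro g₁ g₂ hne
    rw [Set.disjoint_left]
    rintro x ⟨a, ha, rfl⟩ ⟨b, hb, hab⟩
    apply hne
    have himg : ∀ (g : G) (a : K), a ∈ H → g • (H : Set K) = {y | (g • a)⁻¹ * y ∈ H} := by
      intro g a ha
      ext y
      obtain ⟨z, rfl⟩ := MulAction.surjective g y
      rw [Set.smul_mem_smul_set_iff, Set.mem_ofPred_eq]
      exact ((hH.pair hT g a z).trans (H.mul_mem_cancel_left (H.inv_mem ha))).symm
    rw [himg g₁ a ha, himg g₂ b hb]
    dsimp only at hab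
    rw [hab]
  rcases MulAction.IsPreprimitive.isTrivialBlock_of_isBlock hblock with h | h
  · exact Or.inl ((Subgroup.eq_bot_iff_forall _).2 fun x hx => h hx H.one_mem)
  · exact Or.inr (SetLike.coe_injective (by simpa using h))

variable [Finite K]

theorem invariant_count {S T : Set K} (hS : Invariant G S) (hT' : Invariant G T) (hT : HasTranslations G K)
    (n : ℕ) : Invariant G {x : K | Nat.card {y : K // y ∈ S ∧ x⁻¹ * y ∈ T} = n} := by
  intro g hg x
  have e : Nat.card {y : K // y ∈ S ∧ (g • x)⁻¹ * y ∈ T} = Nat.card {y : K // y ∈ S ∧ x⁻¹ * y ∈ T} := by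
    refine (Nat.card_congr (Equiv.subtypeEquiv (MulAction.toPerm g) fun y => ?_)).symm
    rw [MulAction.toPerm_apply, hS g hg y, hT'.pair hT g x y]
  simp only [Set.mem_ofPred_eq, e]

/-! ### The multiplier lemma -/

section Algebra

variable [Fintype K] [DecidableEq K] {p : ℕ}

theorem coeff_mul_eq (F H : MonoidAlgebra (ZMod p) K) (x : K) :
    (F * H).coeff x = ∑ y, F.coeff y * H.coeff (y⁻¹ * x) := by
  rw [MonoidAlgebra.coeff_mul_antidiag F H x (Finset.univ.image fun y => (y, y⁻¹ * x))]
  · rw [Finset.sum_image fun a _ b _ h => (Prod.mk.inj h).1]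
  · rintro ⟨a, b⟩
    simp only [Finset.mem_image, Finset.mem_univ, true_and, Prod.mk.injEq]
    constructor
    · rintro ⟨y, rfl, rfl⟩; rw [mul_inv_cancel_left]
    · intro h; exact ⟨a, rfl, by rw [← h, inv_mul_cancel_left]⟩

/-- invariance of the coefficients -/
def InvCoeff (G : Type*) [Group G] [MulAction G K] (F : MonoidAlgebra (ZMod p) K) : Prop :=
  ∀ g : G, g • (1 : K) = 1 → ∀ x, F.coeff (g • x) = F.coeff x

theorem InvCoeff.pair {F : MonoidAlgebra (ZMod p) K} (hF : InvCoeff G F) (hT : HasTranslations G K)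
    (g : G) (a b : K) : F.coeff ((g • a)⁻¹ * (g • b)) = F.coeff (a⁻¹ * b) := by
  obtain ⟨u, hu⟩ := hT a
  obtain ⟨v, hv⟩ := hT (g • a)⁻¹
  have h1 : (v * g * u) • (1 : K) = 1 := by
    rw [mul_smul, mul_smul, hu, mul_one, hv, inv_mul_cancel]
  have h := hF _ h1 (a⁻¹ * b)
  rwa [mul_smul, mul_smul, hu, mul_inv_cancel_left, hv] at h

theorem InvCoeff.mul {F H : MonoidAlgebra (ZMod p) K} (hF : InvCoeff G F) (hH : InvCoeff G H)
    (hT : HasTranslations G K) : InvCoeff G (F * H) := by
  intro g hg x
  rw [coeff_mul_eq, coeff_mul_eq]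
  refine (Fintype.sum_equiv (MulAction.toPerm g) _ _ fun y => ?_).symm
  rw [MulAction.toPerm_apply, hF g hg y, hH.pair hT g y x]

theorem InvCoeff.pow {F : MonoidAlgebra (ZMod p) K} (hF : InvCoeff G F) (hT : HasTranslations G K) :
    ∀ n, 0 < n → InvCoeff G (F ^ n)
  | 1, _ => by rwa [pow_one]
  | n + 2, _ => by rw [pow_succ]; exact (InvCoeff.pow hF hT (n + 1) n.succ_pos).mul hF hT

theorem invariant_pow_fibre [Fact p.Prime] {T : Set K} [DecidablePred (· ∈ T)] (hTi : Invariant G T)
    (hT : HasTranslations G K) :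
    Invariant G {z : K | ¬ p ∣ (Finset.univ.filter fun y => y ∈ T ∧ y ^ p = z).card} := by
  haveI : CharP (MonoidAlgebra (ZMod p) K) p :=
    charP_of_injective_ringHom (f := MonoidAlgebra.singleOneRingHom (R := ZMod p) (M := K))
      (fun a b h => by
        have := congrArg (fun F => MonoidAlgebra.coeff F 1) h
        simpa [MonoidAlgebra.singleOneRingHom] using this) p
  let F : MonoidAlgebra (ZMod p) K :=
    ∑ y ∈ Finset.univ.filter (· ∈ T), MonoidAlgebra.single y 1
  have hFc : ∀ x, F.coeff x = if x ∈ T then 1 else 0 := by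
    intro x
    simp [F, MonoidAlgebra.coeff_sum, Finsupp.single_apply]
  have hF : InvCoeff G F := fun g hg x => by
    rw [hFc, hFc]
    simp only [hTi g hg x]
  have hpow := hF.pow hT p (Fact.out : p.Prime).pos
  have hFp : ∀ z, (F ^ p).coeff z = ((Finset.univ.filter fun y => y ∈ T ∧ y ^ p = z).card : ZMod p) := by
    intro z
    simp only [F, sum_pow_char, MonoidAlgebra.single_pow, one_pow]
    simp [MonoidAlgebra.coeff_sum, Finsupp.single_apply, Finset.sum_boole, Finset.filter_filter]
  intro g hg x
  have h := hpow g hg x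
  rw [hFp, hFp] at h
  simp only [Set.mem_ofPred_eq, ← ZMod.natCast_eq_zero_iff, h]

end Algebra

/-! ### The main theorem -/

theorem isTransitive_stabilizer [MulAction.IsPreprimitive G K] (hT : HasTranslations G K) {p : ℕ}
    [Fact p.Prime] {P : Subgroup K} (hP : ∀ x, x ∈ P ↔ x ^ p = 1) (hPcard : Nat.card P = p)
    (hPne : P ≠ ⊤) (x y : K) (hx : x ≠ 1) (hy : y ≠ 1) : ∃ g : G, g • (1 : K) = 1 ∧ g • x = y := by
  classical
  haveI := Fintype.ofFinite K
  have hp : p.Prime := Fact.out
  have hPbot : P ≠ ⊥ := fun h => hp.ne_one (by rw [← hPcard, h, Subgroup.card_bot])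
  -- orbits
  let orb : K → Set K := fun z => {w | ∃ g : G, g • (1 : K) = 1 ∧ g • z = w}
  have orb_self : ∀ z, z ∈ orb z := fun z => ⟨1, one_smul _ _, one_smul _ _⟩
  have orb_inv : ∀ z, Invariant G (orb z) := by
    intro z g hg w
    constructor
    · rintro ⟨k, hk, hkz⟩
      exact ⟨g⁻¹ * k, by rw [mul_smul, hk, inv_smul_eq_iff, hg], by rw [mul_smul, hkz, inv_smul_smul]⟩
    · rintro ⟨k, hk, rfl⟩
      exact ⟨g * k, by rw [mul_smul, hk, hg], mul_smul _ _ _⟩
  have orb_min : ∀ z (S : Set K), Invariant G S → ∀ w ∈ orb z, (w ∈ S ↔ z ∈ S) := by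
    rintro z S hS w ⟨g, hg, rfl⟩; exact hS g hg z
  have one_notMem : ∀ z, z ≠ 1 → (1 : K) ∉ orb z := by
    rintro z hz ⟨g, hg, hgz⟩
    exact hz (MulAction.injective g (hgz.trans hg.symm))
  -- periodicity outside `P`
  have periodic : ∀ z, ∀ w ∈ orb z, w ∉ P → ∀ k ∈ P, w * k ∈ orb z := by
    intro z w hw hwP k hk
    set S := {u : K | ¬ p ∣ (Finset.univ.filter fun v => v ∈ orb z ∧ v ^ p = u).card}
    have hSi : Invariant G S := invariant_pow_fibre (orb_inv z) hT
    have hle : Subgroup.closure S ≤ (powMonoidHom p : K →* K).range := by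
      rw [Subgroup.closure_le]
      intro u hu
      obtain ⟨v, hv⟩ : (Finset.univ.filter fun v => v ∈ orb z ∧ v ^ p = u).Nonempty := by
        rw [Finset.nonempty_iff_ne_empty]; intro h; exact hu (by rw [h]; simp)
      exact ⟨v, (Finset.mem_filter.1 hv).2.2⟩
    have hne : Subgroup.closure S ≠ ⊤ := by
      intro h
      rw [h, top_le_iff, MonoidHom.range_eq_top, ← Finite.injective_iff_surjective] at hle
      apply hPbot
      rw [Subgroup.eq_bot_iff_forall]
      intro u hu
      exact hle (by simp [(hP u).1 hu])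
    have hbot := (eq_bot_or_top hT _ (invariant_closure hSi hT)).resolve_right hne
    have hwpS : w ^ p ∉ S := by
      intro h
      have := Subgroup.subset_closure h (k := S)
      rw [hbot, Subgroup.coe_bot, Set.mem_singleton_iff] at this
      exact hwP ((hP w).2 this)
    simp only [S, Set.mem_ofPred_eq, not_not] at hwpS
    by_contra hwk
    set Fib := Finset.univ.filter fun v => v ^ p = w ^ p
    have hFib : Fib.card = p := by
      have hPc : (Finset.univ.filter (· ∈ P)).card = p := by
        rw [← Fintype.card_subtype, ← Nat.card_eq_fintype_card]; exact hPcard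
      rw [← hPc]
      refine Finset.card_bij (fun v _ => v / w) (fun v hv => ?_) (fun a _ b _ h => div_left_injective h)
        fun u hu => ⟨u * w, ?_, by simp⟩
      · simp only [Fib, Finset.mem_filter, Finset.mem_univ, true_and] at hv ⊢
        rw [hP, div_pow, hv, div_self']
      · simp only [Finset.mem_filter, Finset.mem_univ, true_and] at hu
        simp [Fib, mul_pow, (hP u).1 hu]
    have hsub : (Finset.univ.filter fun v => v ∈ orb z ∧ v ^ p = w ^ p) ⊂ Fib := by
      rw [Finset.ssubset_iff_of_subset (fun v hv => by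
        simp only [Fib, Finset.mem_filter] at hv ⊢; exact ⟨hv.1, hv.2.2⟩)]
      exact ⟨w * k, by simp [Fib, mul_pow, (hP k).1 hk], by simp [hwk]⟩
    have hpos : 0 < (Finset.univ.filter fun v => v ∈ orb z ∧ v ^ p = w ^ p).card :=
      Finset.card_pos.2 ⟨w, by simp [hw]⟩
    have := Nat.le_of_dvd hpos hwpS
    have := Finset.card_lt_card hsub
    omega
  -- every orbit meets `P`
  have meets : ∀ z, z ≠ 1 → ∃ w ∈ orb z, w ∈ P := by
    intro z hz
    by_contra h
    push Not at h
    let R : Subgroup K :=
      { carrier := {g | ∀ w, w * g ∈ orb z ↔ w ∈ orb z}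
        one_mem' := fun w => by rw [mul_one]
        mul_mem' := fun {a b} ha hb w => by rw [← mul_assoc, hb, ha]
        inv_mem' := fun {a} ha w => by rw [← ha (w * a⁻¹), inv_mul_cancel_right] }
    have hR : ∀ g, g ∈ R ↔ Nat.card {w : K // w ∈ orb z ∧ g⁻¹ * w ∈ orb z} = Nat.card (orb z) := by
      intro g
      constructor
      · intro hg
        refine Nat.card_congr (Equiv.subtypeEquivRight fun w => ⟨And.left, fun hw => ⟨hw, ?_⟩⟩)
        rw [mul_comm]; exact (R.inv_mem hg w).2 hw
      · intro hg
        have hall : ∀ w ∈ orb z, g⁻¹ * w ∈ orb z := by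
          have hs : {w : K | w ∈ orb z ∧ g⁻¹ * w ∈ orb z} = orb z :=
            Set.eq_of_subset_of_ncard_le (fun w hw => hw.1) hg.symm.le
          intro w hw
          rw [← hs] at hw
          exact hw.2
        have hinv : g⁻¹ ∈ R := by
          intro w
          refine ⟨fun hw => ?_, fun hw => by rw [mul_comm]; exact hall w hw⟩
          have hsurj := (Finite.injective_iff_surjective
            (f := fun v : orb z => (⟨g⁻¹ * v.1, hall v.1 v.2⟩ : orb z))).1
            (fun a b h => Subtype.ext (mul_left_cancel (congrArg Subtype.val h :)))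
          obtain ⟨v, hv⟩ := hsurj ⟨w * g⁻¹, hw⟩
          have he : g⁻¹ * v.1 = w * g⁻¹ := congrArg Subtype.val hv
          rw [mul_comm w] at he
          exact mul_left_cancel he ▸ v.2
        simpa using R.inv_mem hinv
    have hRi : Invariant G (R : Set K) := by
      intro g hg w
      rw [SetLike.mem_coe, SetLike.mem_coe, hR, hR]
      exact invariant_count (orb_inv z) (orb_inv z) hT (Nat.card (orb z)) g hg w
    have hPR : P ≤ R := by
      intro k hk w
      refine ⟨fun hw => ?_, fun hw => periodic z w hw (h w hw) k hk⟩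
      have := periodic z _ hw (h _ hw) k⁻¹ (P.inv_mem hk)
      rwa [mul_inv_cancel_right] at this
    rcases eq_bot_or_top hT R hRi with hb | ht
    · exact hPbot (le_bot_iff.1 (hb ▸ hPR))
    · have : (z⁻¹ : K) ∈ R := ht ▸ Subgroup.mem_top _
      exact one_notMem z hz (by have := (this z).2 (orb_self z); rwa [mul_inv_cancel] at this)
  -- an orbit contains all nontrivial elements of `P`
  have full : ∀ z, z ≠ 1 → ∀ k ∈ P, k ≠ 1 → k ∈ orb z := by
    intro z hz
    obtain ⟨a, haz, haP⟩ := meets z hz
    set T := orb z with hTdef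
    let A := Finset.univ.filter fun w => w ∈ T ∧ w ∈ P
    have hne_one : ∀ w ∈ T, w ≠ 1 := fun w hw h => one_notMem z hz (h ▸ hw)
    -- some element of the orbit lies outside `P`
    obtain ⟨u, huT, huP⟩ : ∃ u ∈ T, u ∉ P := by
      by_contra hc
      push Not at hc
      rcases eq_bot_or_top hT _ (invariant_closure (orb_inv z) hT) with hb | ht
      · have := Subgroup.subset_closure haz (k := T)
        rw [hb, Subgroup.coe_bot, Set.mem_singleton_iff] at this
        exact hne_one a haz this
      · exact hPne (top_le_iff.1 (ht ▸ (Subgroup.closure_le _).2 hc))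
    let v : K → ℕ := fun h => (A.filter fun w => h⁻¹ * w ∈ A).card
    -- counts at elements of the orbit
    let c : K → ℕ := fun g => Nat.card {w : K // w ∈ T ∧ g⁻¹ * w ∈ T}
    have hc : ∀ w ∈ T, c w = c z := fun w hw =>
      (orb_min z _ (invariant_count (orb_inv z) (orb_inv z) hT (c z)) w hw).2 rfl
    let B := Finset.univ.filter fun w => w ∈ T ∧ w ∉ P
    have hcsplit : ∀ g, c g = (A.filter fun w => g⁻¹ * w ∈ T).card + (B.filter fun w => g⁻¹ * w ∈ T).card := by
      intro g
      simp only [c, Nat.card_eq_fintype_card, Fintype.card_subtype]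
      rw [← Finset.card_filter_add_card_filter_not (· ∈ P)]
      congr 2 <;> (ext w; simp [A, B]; tauto)
    -- multiples of `p`
    have hperiodic : ∀ s : Finset K, (∀ w ∈ s, ∀ k ∈ P, w * k ∈ s) → p ∣ s.card := by
      intro s hs
      rw [Finset.card_eq_sum_card_image (fun w => w ^ p) s]
      refine Finset.dvd_sum fun b hb => ?_
      obtain ⟨w, hw, rfl⟩ := Finset.mem_image.1 hb
      have : (s.filter fun v => v ^ p = w ^ p).card = p := by
        have hPc : (Finset.univ.filter (· ∈ P)).card = p := by
          rw [← Fintype.card_subtype, ← Nat.card_eq_fintype_card]; exact hPcard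
        conv_rhs => rw [← hPc]
        refine Finset.card_bij (fun v _ => v / w) (fun v hv => ?_) (fun a _ b _ h => div_left_injective h)
          fun u hu => ⟨w * u, ?_, by simp⟩
        · simp only [Finset.mem_filter, Finset.mem_univ, true_and] at hv ⊢
          rw [hP, div_pow, hv.2, div_self']
        · simp only [Finset.mem_filter, Finset.mem_univ, true_and] at hu
          simp [hs w hw u hu, mul_pow, (hP u).1 hu]
      rw [this]
    have hB : p ∣ B.card := hperiodic B fun w hw k hk => by
      simp only [B, Finset.mem_filter, Finset.mem_univ, true_and] at hw ⊢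
      exact ⟨periodic z w hw.1 hw.2 k hk, fun h => hw.2 ((P.mul_mem_cancel_right hk).1 h)⟩
    have hcP : ∀ h ∈ P, c h = v h + B.card := by
      intro h hh
      rw [hcsplit]
      congr 1
      · refine congrArg Finset.card (Finset.filter_congr fun w hw => ?_)
        simp only [A, Finset.mem_filter, Finset.mem_univ, true_and] at hw ⊢
        exact ⟨fun hw' => ⟨hw', P.mul_mem (P.inv_mem hh) hw.2⟩, And.left⟩
      · refine congrArg Finset.card (Finset.filter_true_of_mem fun w hw => ?_)
        simp only [B, Finset.mem_filter, Finset.mem_univ, true_and] at hw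
        rw [mul_comm]; exact periodic z w hw.1 hw.2 _ (P.inv_mem hh)
    have hcu : ∀ g, g ∉ P → ∃ m, c g = (if g⁻¹ ∈ T then A.card else 0) + (if g ∈ T then A.card else 0) + p * m := by
      intro g hg
      rw [hcsplit, ← Finset.card_filter_add_card_filter_not (s := B.filter fun w => g⁻¹ * w ∈ T)
        (fun w => g⁻¹ * w ∈ P)]
      have e1 : (A.filter fun w => g⁻¹ * w ∈ T).card = if g⁻¹ ∈ T then A.card else 0 := by
        have key : ∀ w ∈ A, g⁻¹ * w ∈ T ↔ g⁻¹ ∈ T := by
          intro w hw
          simp only [A, Finset.mem_filter, Finset.mem_univ, true_and] at hw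
          have hnp : g⁻¹ * w ∉ P := fun h => hg (by
            have := P.mul_mem h (P.inv_mem hw.2)
            rwa [mul_inv_cancel_right, inv_mem_iff] at this)
          refine ⟨fun h => ?_, fun h => periodic z _ h (fun h' => hg (inv_mem_iff.1 h')) w hw.2⟩
          have := periodic z _ h hnp w⁻¹ (P.inv_mem hw.2)
          rwa [mul_inv_cancel_right] at this
        rw [Finset.filter_congr key]
        split_ifs with h <;> simp [h]
      have e2 : ((B.filter fun w => g⁻¹ * w ∈ T).filter fun w => g⁻¹ * w ∈ P).card =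
          if g ∈ T then A.card else 0 := by
        split_ifs with h
        · refine Finset.card_bij (fun w _ => g⁻¹ * w) (fun w hw => ?_)
            (fun a _ b _ h => mul_left_cancel h) fun k hk => ⟨g * k, ?_, inv_mul_cancel_left g k⟩
          · simp only [A, B, Finset.mem_filter, Finset.mem_univ, true_and] at hw ⊢
            exact ⟨hw.1.2, hw.2⟩
          · simp only [A, B, Finset.mem_filter, Finset.mem_univ, true_and] at hk ⊢
            rw [inv_mul_cancel_left]
            exact ⟨⟨⟨periodic z g h hg k hk.2, fun h' => hg ((P.mul_mem_cancel_right hk.2).1 h')⟩, hk.1⟩, hk.2⟩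
        · rw [Finset.card_eq_zero, Finset.filter_eq_empty_iff]
          intro w hw hwP
          simp only [B, Finset.mem_filter, Finset.mem_univ, true_and] at hw
          apply h
          have hk : w⁻¹ * g ∈ P := by
            have := P.inv_mem hwP
            rwa [mul_inv_rev, inv_inv] at this
          have := periodic z w hw.1.1 hw.1.2 _ hk
          rwa [mul_inv_cancel_left] at this
      obtain ⟨m, hm⟩ := hperiodic ((B.filter fun w => g⁻¹ * w ∈ T).filter fun w => ¬ g⁻¹ * w ∈ P) fun w hw k hk => by
        simp only [B, Finset.mem_filter, Finset.mem_univ, true_and] at hw ⊢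
        rw [← mul_assoc]
        exact ⟨⟨⟨periodic z w hw.1.1.1 hw.1.1.2 k hk, fun h => hw.1.1.2 ((P.mul_mem_cancel_right hk).1 h)⟩,
          periodic z _ hw.1.2 hw.2 k hk⟩, fun h => hw.2 ((P.mul_mem_cancel_right hk).1 h)⟩
      exact ⟨m, by rw [e1, e2, hm]; ring⟩
    -- congruence at elements of `A`
    have hcong : ∀ h ∈ A, ∃ m n, v h + p * n = (if h⁻¹ ∈ T then A.card else 0) + A.card + p * m := by
      intro h hh
      simp only [A, Finset.mem_filter, Finset.mem_univ, true_and] at hh
      obtain ⟨m, hm⟩ := hcu u huP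
      obtain ⟨n, hn⟩ := hB
      refine ⟨m, n, ?_⟩
      rw [← hn, ← hcP h hh.2, hc h hh.1, ← hc u huT, hm, if_pos huT]
      have hi := orb_min z _ (invariant_inv (orb_inv z) hT)
      have hiff : u⁻¹ ∈ T ↔ h⁻¹ ∈ T := (hi u huT).trans (hi h hh.1).symm
      simp only [hiff]
    have hA : A.Nonempty := ⟨a, by simp [A, haz, haP]⟩
    have hAp : A.card < p := by
      have hPc : (Finset.univ.filter (· ∈ P)).card = p := by
        rw [← Fintype.card_subtype, ← Nat.card_eq_fintype_card]; exact hPcard
      rw [← hPc]
      refine Finset.card_lt_card ((Finset.ssubset_iff_of_subset fun w hw => ?_).2 ⟨1, ?_, ?_⟩)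
      · simp only [A, Finset.mem_filter] at hw ⊢; exact ⟨hw.1, hw.2.2⟩
      · simp [P.one_mem]
      · simp [A, one_notMem z hz, hTdef]
    have hvlt : ∀ h ∈ P, h ≠ 1 → v h < A.card := by
      intro h hh h1
      refine lt_of_le_of_ne (Finset.card_filter_le _ _) fun he => ?_
      have hall : ∀ w ∈ A, h⁻¹ * w ∈ A := Finset.card_filter_eq_iff.1 he
      have hgen : Subgroup.zpowers h⁻¹ = P := by
        refine Subgroup.eq_of_le_of_card_ge (Subgroup.zpowers_le.2 (P.inv_mem hh)) ?_
        rw [hPcard, Nat.card_zpowers, orderOf_eq_prime ((hP _).1 (P.inv_mem hh)) (by simpa using h1)]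
      have hpow : ∀ n : ℕ, h⁻¹ ^ n * a ∈ A := by
        intro n
        induction n with
        | zero => simp [A, haz, haP]
        | succ n ih => rw [pow_succ', mul_assoc]; exact hall _ ih
      have : a⁻¹ ∈ Subgroup.zpowers h⁻¹ := hgen ▸ P.inv_mem haP
      obtain ⟨n, hn⟩ := mem_powers_iff_mem_zpowers.2 this
      have hn' : h⁻¹ ^ n = a⁻¹ := hn
      have := hpow n
      rw [hn', inv_mul_cancel] at this
      exact one_notMem z hz (Finset.mem_filter.1 this).2.1
    have hsym : ∀ h ∈ A, h⁻¹ ∈ A ∧ v h + p = 2 * A.card := by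
      intro h hh
      obtain ⟨m, n, hmn⟩ := hcong h hh
      have hh' := Finset.mem_filter.1 hh
      have hlt := hvlt h hh'.2.2 (hne_one h hh'.2.1)
      split_ifs at hmn with hi
      · refine ⟨by simp [A, hi, hh'.2.2], ?_⟩
        rcases Nat.lt_trichotomy n (m + 1) with hl | hl | hl
        · have := Nat.mul_le_mul_left p (Nat.lt_succ_iff.1 hl); omega
        · subst hl; rw [Nat.mul_succ] at hmn; omega
        · have := Nat.mul_le_mul_left p (show m + 2 ≤ n by omega)
          rw [Nat.mul_add] at this; omega
      · rcases Nat.lt_or_ge m n with hl | hl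
        · have := Nat.mul_le_mul_left p (show m + 1 ≤ n by omega)
          rw [Nat.mul_add] at this; omega
        · have := Nat.mul_le_mul_left p hl; omega
    -- sum of the counts
    have hsum : ∑ h ∈ Finset.univ.filter (· ∈ P), v h = A.card * A.card := by
      simp only [v, Finset.card_filter]
      rw [Finset.sum_comm]
      have : ∀ w ∈ A, (∑ h ∈ Finset.univ.filter (· ∈ P), if h⁻¹ * w ∈ A then 1 else 0) = A.card := by
        intro w hw
        rw [← Finset.card_filter]
        refine Finset.card_bij (fun h _ => h⁻¹ * w) (fun h hh => (Finset.mem_filter.1 hh).2)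
          (fun a _ b _ h => inv_injective (mul_right_cancel h)) fun k hk => ⟨w * k⁻¹, ?_, by simp⟩
        have hwP := (Finset.mem_filter.1 hw).2.2
        have hkP := (Finset.mem_filter.1 hk).2.2
        simp [P.mul_mem hwP (P.inv_mem hkP), hk]
      rw [Finset.sum_congr rfl this, Finset.sum_const, smul_eq_mul]
    intro k hk hk1
    by_contra hkT
    have hge : v 1 + ∑ h ∈ A, v h ≤ A.card * A.card := by
      rw [← hsum, ← Finset.sum_insert (f := v) (by simp [A, one_notMem z hz, hTdef] : (1 : K) ∉ A)]
      refine Finset.sum_le_sum_of_subset fun w hw => ?_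
      simp only [A, Finset.mem_insert, Finset.mem_filter, Finset.mem_univ, true_and] at hw ⊢
      rcases hw with rfl | hw
      · exact P.one_mem
      · exact hw.2
    have hv1 : v 1 = A.card := by simp [v, Finset.filter_true_of_mem]
    have hout : ∀ h ∈ P, h ≠ 1 → h ∉ A → v h = 0 := by
      intro h hh h1 hhA
      obtain ⟨w, hw, hwP⟩ := meets h h1
      have hhT : h ∉ T := fun h' => hhA (by simp [A, h', hh])
      have hhinv : h⁻¹ ∉ T := fun h' => hhA (by
        have := (hsym h⁻¹ (by simp [A, h', hh])).1
        rwa [inv_inv] at this)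
      obtain ⟨u', hu'o, hu'P⟩ : ∃ u' ∈ orb h, u' ∉ P := by
        by_contra hc
        push Not at hc
        rcases eq_bot_or_top hT _ (invariant_closure (orb_inv h) hT) with hb | ht
        · have := Subgroup.subset_closure (orb_self h) (k := orb h)
          rw [hb, Subgroup.coe_bot, Set.mem_singleton_iff] at this
          exact h1 this
        · exact hPne (top_le_iff.1 (ht ▸ (Subgroup.closure_le _).2 hc))
      obtain ⟨m, hm⟩ := hcu u' hu'P
      have hT1 : u' ∉ T := fun h' => hhT ((orb_min h _ (orb_inv z) u' hu'o).1 h')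
      have hT2 : u'⁻¹ ∉ T := fun h' =>
        hhinv ((orb_min h _ (invariant_inv (orb_inv z) hT) u' hu'o).1 h')
      rw [if_neg hT1, if_neg hT2] at hm
      have hce : c u' = c h :=
        (orb_min h _ (invariant_count (orb_inv z) (orb_inv z) hT (c h)) u' hu'o).2 rfl
      rw [hce, hcP h hh] at hm
      obtain ⟨n, hn⟩ := hB
      have hlt := hvlt h hh h1
      rcases Nat.lt_or_ge n m with hl | hl
      · have := Nat.mul_le_mul_left p (show n + 1 ≤ m by omega)
        rw [Nat.mul_add] at this; omega
      · have := Nat.mul_le_mul_left p hl; omega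
    have heq : ∑ h ∈ Finset.univ.filter (· ∈ P), v h = v 1 + ∑ h ∈ A, v h := by
      rw [← Finset.sum_insert (f := v) (by simp [A, one_notMem z hz, hTdef] : (1 : K) ∉ A)]
      refine (Finset.sum_subset (fun w hw => ?_) fun w hw hwn => ?_).symm
      · simp only [A, Finset.mem_insert, Finset.mem_filter, Finset.mem_univ, true_and] at hw ⊢
        rcases hw with rfl | hw
        · exact P.one_mem
        · exact hw.2
      · rw [Finset.mem_insert, not_or] at hwn
        exact hout w (Finset.mem_filter.1 hw).2 hwn.1 hwn.2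
    have hvA : ∑ h ∈ A, v h + A.card * p = A.card * (2 * A.card) := by
      have : ∑ h ∈ A, (v h + p) = ∑ h ∈ A, 2 * A.card := Finset.sum_congr rfl fun h hh => (hsym h hh).2
      rwa [Finset.sum_add_distrib, Finset.sum_const, Finset.sum_const, smul_eq_mul, smul_eq_mul] at this
    rw [hsum, hv1] at heq
    have hAcard : A.card + 1 = p := by
      have h0 : 0 < A.card := Finset.card_pos.2 hA
      have : A.card * (A.card + 1) = A.card * p := by linarith
      exact Nat.eq_of_mul_eq_mul_left h0 this
    have hPc : (Finset.univ.filter (· ∈ P)).card = p := by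
      rw [← Fintype.card_subtype, ← Nat.card_eq_fintype_card]; exact hPcard
    have hsub : insert k (insert 1 A) ⊆ Finset.univ.filter (· ∈ P) := by
      intro w hw
      simp only [A, Finset.mem_insert, Finset.mem_filter, Finset.mem_univ, true_and] at hw ⊢
      rcases hw with rfl | rfl | hw
      · exact hk
      · exact P.one_mem
      · exact hw.2
    have := Finset.card_le_card hsub
    rw [Finset.card_insert_of_notMem (by simp [A, hk1, hkT]),
      Finset.card_insert_of_notMem (by simp [A, one_notMem z hz, hTdef]), hPc] at this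
    omega
  -- conclusion
  obtain ⟨a, ha, haP⟩ := meets y hy
  have ha1 : a ≠ 1 := fun h => one_notMem y hy (h ▸ ha)
  obtain ⟨g, hg, hgx⟩ := full x hx a haP ha1
  obtain ⟨k, hk, hky⟩ := ha
  exact ⟨k⁻¹ * g, by rw [mul_smul, hg, inv_smul_eq_iff, hk], by rw [mul_smul, hgx, inv_smul_eq_iff, hky]⟩

end CfsgLib.BGroup

namespace CfsgLib.BGroup

/-- a primitive group with a regular abelian subgroup which has, for a prime `p`, exactly `p` solutions
of `x ^ p = 1` and is not of order `p`, is doubly transitive -/
theorem two_pretransitive_of_regular {G Ω : Type*} [Group G] [MulAction G Ω] [Finite Ω]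
    [MulAction.IsPreprimitive G Ω] (R : Subgroup G) [IsMulCommutative R] [MulAction.IsPretransitive R Ω]
    (hfree : ∀ a : Ω, MulAction.stabilizer R a = ⊥) [Nonempty Ω] (p : ℕ) [Fact p.Prime]
    (hp : Nat.card {x : R // x ^ p = 1} = p) (hne : Nat.card R ≠ p) :
    MulAction.IsMultiplyPretransitive G Ω 2 := by
  let a : Ω := Classical.arbitrary Ω
  letI : CommGroup R := { (inferInstance : Group R) with mul_comm := fun x y => IsMulCommutative.is_comm.comm x y }
  have hbij : Function.Bijective fun r : R => r • a := by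
    refine ⟨fun x y h => ?_, fun w => MulAction.exists_smul_eq R a w⟩
    have hm : y⁻¹ * x ∈ MulAction.stabilizer R a := by
      simp only [MulAction.mem_stabilizer_iff, mul_smul] at *
      rw [h, inv_smul_smul]
    rw [hfree, Subgroup.mem_bot, inv_mul_eq_one] at hm
    exact hm.symm
  let e : R ≃ Ω := Equiv.ofBijective _ hbij
  letI : MulAction G R :=
    { smul := fun g r => e.symm (g • e r)
      one_smul := fun r => by show e.symm ((1 : G) • e r) = r; simp
      mul_smul := fun g h r => by
        show e.symm ((g * h) • e r) = e.symm (g • e (e.symm (h • e r)))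
        rw [e.apply_symm_apply, mul_smul] }
  have he : ∀ (g : G) (r : R), e (g • r) = g • e r := fun g r => e.apply_symm_apply _
  have he1 : e 1 = a := one_smul R a
  haveI : Finite R := Finite.of_equiv Ω e.symm
  let φ : R →ₑ[(id : G → G)] Ω := ⟨e, he⟩
  haveI : MulAction.IsPreprimitive G R :=
    (MulAction.isPreprimitive_congr (f := φ) Function.surjective_id e.bijective).2 inferInstance
  have hT : HasTranslations G R := fun k => ⟨(k : G), fun x => e.injective (by
    rw [he]
    show (k : G) • ((x : G) • a) = ((k * x : R) : G) • a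
    rw [Subgroup.coe_mul, mul_smul])⟩
  have hPne : (powMonoidHom p : R →* R).ker ≠ ⊤ := by
    intro h
    apply hne
    rw [← hp, ← Subgroup.card_top (G := R), ← h]
    exact Nat.card_congr (Equiv.subtypeEquivRight fun x => by simp [MonoidHom.mem_ker])
  have hPcard : Nat.card (powMonoidHom p : R →* R).ker = p := by
    conv_rhs => rw [← hp]
    exact Nat.card_congr (Equiv.subtypeEquivRight fun x => by simp [MonoidHom.mem_ker])
  rw [MulAction.is_two_pretransitive_iff]
  intro x y u w hxy huw
  obtain ⟨r, rfl⟩ := e.surjective x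
  obtain ⟨s, rfl⟩ := e.surjective y
  obtain ⟨m, rfl⟩ := e.surjective u
  obtain ⟨n, rfl⟩ := e.surjective w
  obtain ⟨g1, hg1⟩ := hT r⁻¹
  obtain ⟨g2, hg2⟩ := hT m
  obtain ⟨g, hg, hgs⟩ := isTransitive_stabilizer (G := G) hT (p := p) (fun z => by simp [MonoidHom.mem_ker])
    hPcard hPne (r⁻¹ * s) (m⁻¹ * n)
    (fun h => hxy (congrArg e (inv_mul_eq_one.1 h)))
    (fun h => huw (congrArg e (inv_mul_eq_one.1 h)))
  refine ⟨g2 * g * g1, ?_, ?_⟩
  · rw [← he]; congr 1
    rw [mul_smul, mul_smul, hg1, inv_mul_cancel, hg, hg2, mul_one]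
  · rw [← he]; congr 1
    rw [mul_smul, mul_smul, hg1, hgs, hg2, mul_inv_cancel_left]

end CfsgLib.BGroup
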